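import Groth.Agent.MTKernel.Basic
import Groth.Agent.MTQuot.Core
import Groth.Agent.MonoFactor.Orbit
import Groth.Agent.MTBridge.MonoTori
import Groth.Agent.MTBridge.FlatMT
import Groth.Agent.MTBridge.TransporterSub
import Groth.Agent.MTBridge.ExtCentral

/-!
# Split and locally split subtori of groups of multiplicative type
-/

set_option autoImplicit false
set_option linter.style.haveILetI false
set_option backward.isDefEq.respectTransparency false
set_option maxHeartbeats 1000000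
set_option synthInstance.maxHeartbeats 400000

universe u

noncomputable section

open CategoryTheory Limits MonoidalCategory CartesianMonoidalCategory MonObj GrpObj AlgebraicGeometry WithConv
open scoped CategoryTheory.Obj

namespace Groth.Agent.MTSplit

open Groth.Agent.MTBridge Groth.Agent.HomDiag Groth.Agent.MTQuot

variable {S : Scheme.{u}}

/-- Locally split, with varying ranks. -/
def LocSplit (T : Over S) [GrpObj T] : Prop :=
  ∀ s : ↥S, ∃ U : S.Opens, s ∈ U ∧ ∃ r : ℕ, Red.IsSplitTorusWith (Fin r → ℤ) (Red.bc U.ι T)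

/-- Locally split of a fixed rank. -/
def LocSplitRank (r : ℕ) (T : Over S) [GrpObj T] : Prop :=
  ∀ s : ↥S, ∃ U : S.Opens, s ∈ U ∧ Red.IsSplitTorusWith (Fin r → ℤ) (Red.bc U.ι T)

theorem LocSplitRank.locSplit {r : ℕ} {T : Over S} [GrpObj T] (h : LocSplitRank r T) : LocSplit T := fun s => by
  obtain ⟨U, hU, hs⟩ := h s
  exact ⟨U, hU, r, hs⟩

theorem split_bc {M : Type} [AddCommGroup M] {T : Over S} [GrpObj T] (h : Red.IsSplitTorusWith M T)
    {X : Scheme.{u}} (o : X ⟶ S) : Red.IsSplitTorusWith M (Red.bc o T) :=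
  ⟨bcMapIso o h.some ≪≫ bcDS o M⟩

theorem locSplitRank_of_split {r : ℕ} {T : Over S} [GrpObj T] (h : Red.IsSplitTorusWith (Fin r → ℤ) T) :
    LocSplitRank r T := fun _ => ⟨⊤, trivial, split_bc h _⟩

theorem isTorus_of_locSplit {T : Over S} [GrpObj T] (h : LocSplit T) : Red.IsTorus T := by
  refine ⟨S, 𝟙 S, inferInstance, inferInstance, fun V hV => ⟨V, hV.isCompact, by simp⟩, fun s => ?_⟩
  obtain ⟨U, hU, r, ⟨e⟩⟩ := h s
  exact ⟨U, hU, r, ⟨bcCongr (Category.comp_id _) T ≪≫ e⟩⟩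

theorem isMultTypeFT_of_locSplit {T : Over S} [GrpObj T] (h : LocSplit T) : SGA3x.IsMultTypeFT T :=
  isMultTypeFT_of_isTorus T (isTorus_of_locSplit h)

theorem isMonHom_of_comp_mono {A B G : Over S} [GrpObj A] [GrpObj B] [GrpObj G] (g : A ⟶ B) (j : B ⟶ G)
    [IsMonHom j] [Mono j] (a : A ⟶ G) [IsMonHom a] (h : g ≫ j = a) : IsMonHom g := by
  refine isMonHom_of_points g fun X x y => ?_
  rw [← cancel_mono j, Category.assoc, h, MonObj.mul_comp, MonObj.mul_comp, Category.assoc, Category.assoc, h]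

theorem mono_bc {X : Scheme.{u}} (o : X ⟶ S) {A B : Over S} (j : A ⟶ B) [Mono j] :
    Mono ((Over.pullback o).map j) := inferInstance

/-- The rank of a subtorus is bounded by that of a chart of the group. -/
theorem rank_le_of_charts {T G : Over S} [GrpObj T] [GrpObj G] (j : T ⟶ G) [IsMonHom j] [Mono j]
    {X : Scheme.{u}} (o : X ⟶ S) (x : X) {r : ℕ} {M : Type} [AddCommGroup M] [Module.Finite ℤ M]
    (hT : Red.IsSplitTorusWith (Fin r → ℤ) (Red.bc o T))
    (hG : Nonempty (Grp.mk (Red.bc o G) ≅ Grp.mk (Red.DS X M))) : r ≤ Module.finrank ℤ M := by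
  haveI : AddGroup.FG M := (Module.Finite.iff_addGroup_fg (G := M)).1 inferInstance
  obtain ⟨a⟩ := hT
  obtain ⟨b⟩ := hG
  let a' : Red.bc o T ≅ Red.DS X (Fin r → ℤ) := (Grp.forget _).mapIso a
  let b' : Red.bc o G ≅ Red.DS X M := (Grp.forget _).mapIso b
  haveI : IsMonHom a'.inv := a.inv.hom.isMonHom_hom
  haveI : IsMonHom b'.hom := b.hom.hom.isMonHom_hom
  haveI := mono_bc o j
  let w : Red.DS X (Fin r → ℤ) ⟶ Red.DS X M := a'.inv ≫ (Over.pullback o).map j ≫ b'.hom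
  haveI : IsMonHom w := by dsimp [w]; infer_instance
  haveI : Mono w := by dsimp [w]; infer_instance
  obtain ⟨V, θ, hx, hV⟩ := exists_local_DSmap w x
  have hsurj : Function.Surjective θ := surjective_of_mono hx θ fun Y hY y z h => by
    rw [← hV Y hY, ← hV Y hY] at h
    exact (cancel_mono w).1 h
  have h := LinearMap.finrank_range_le θ.toIntLinearMap
  rw [LinearMap.range_eq_top.2 hsurj, finrank_top, Module.finrank_fin_fun] at h
  exact h

/-- A monomorphism of locally split tori increases the rank. -/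
theorem rank_le_of_mono {T T' : Over S} [GrpObj T] [GrpObj T'] (j : T ⟶ T') [IsMonHom j] [Mono j] {r r' : ℕ}
    {U U' : S.Opens} {s : S} (hs : s ∈ U) (hs' : s ∈ U') (h : Red.IsSplitTorusWith (Fin r → ℤ) (Red.bc U.ι T))
    (h' : Red.IsSplitTorusWith (Fin r' → ℤ) (Red.bc U'.ι T')) : r ≤ r' := by
  let W := U ⊓ U'
  have h1 := nonempty_bc_split h (S.homOfLE (inf_le_left : W ≤ U))
  have h2 := nonempty_bc_split h' (S.homOfLE (inf_le_right : W ≤ U'))
  rw [Scheme.homOfLE_ι] at h1 h2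
  have := rank_le_of_charts j W.ι ⟨s, hs, hs'⟩ h1 h2
  rwa [Module.finrank_fin_fun] at this

/-- The ranks of the locally split subtori of a group of multiplicative type are bounded. -/
theorem exists_rank_bound [Nonempty S] {G : Over S} [GrpObj G] (hG : SGA3x.IsMultTypeFT G) :
    ∃ n : ℕ, ∀ (T : Over S) [GrpObj T] (j : T ⟶ G) [IsMonHom j] [Mono j] (r : ℕ), LocSplitRank r T → r ≤ n := by
  obtain ⟨s⟩ := (inferInstance : Nonempty S)
  obtain ⟨S', f, -, hf, -, hloc⟩ := hG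
  obtain ⟨s', rfl⟩ := hf.surj s
  obtain ⟨U', hU', M, _, hM, hsplit⟩ := hloc s'
  haveI : Module.Finite ℤ M := Module.Finite.iff_addGroup_fg.2 hM
  refine ⟨Module.finrank ℤ M, fun T _ j _ _ r hT => ?_⟩
  obtain ⟨U, hU, h⟩ := hT (f s')
  let W := U' ⊓ f ⁻¹ᵁ U
  have h1 := nonempty_bc_split h (f.resLE U W inf_le_right)
  rw [Scheme.Hom.resLE_comp_ι] at h1
  have h2 := nonempty_bc_split hsplit (S'.homOfLE (inf_le_left : W ≤ U'))
  rw [← Category.assoc, Scheme.homOfLE_ι] at h2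
  exact rank_le_of_charts j (W.ι ≫ f) ⟨s', hU', hU⟩ h1 h2

/-- The rank of a locally split torus over a connected base is constant. -/
theorem exists_rank [ConnectedSpace S] {T : Over S} [GrpObj T] (h : LocSplit T) : ∃ r, LocSplitRank r T := by
  obtain ⟨s₀⟩ := (inferInstance : Nonempty S)
  obtain ⟨U₀, hU₀, r, hr⟩ := h s₀
  refine ⟨r, ?_⟩
  let A : Set S := {t | ∃ U : S.Opens, t ∈ U ∧ Red.IsSplitTorusWith (Fin r → ℤ) (Red.bc U.ι T)}
  have hA : IsClopen A := by
    refine ⟨isOpen_compl_iff.1 (isOpen_iff_forall_mem_open.2 fun t ht => ?_),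
      isOpen_iff_forall_mem_open.2 fun t ht => ?_⟩
    · obtain ⟨U, hU, r', hr'⟩ := h t
      refine ⟨U, fun t' ht' hA' => ?_, U.isOpen, hU⟩
      obtain ⟨U', hU', hs'⟩ := hA'
      have : r = r' := le_antisymm (rank_le_of_mono (𝟙 T) hU' ht' hs' hr') (rank_le_of_mono (𝟙 T) ht' hU' hr' hs')
      exact ht ⟨U, hU, this ▸ hr'⟩
    · obtain ⟨U, hU, hs⟩ := ht
      exact ⟨U, fun t' ht' => ⟨U, ht', hs⟩, U.isOpen, hU⟩
  exact fun t => (hA.eq_univ ⟨s₀, U₀, hU₀, hr⟩).ge (Set.mem_univ t)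

/-- A monomorphism of tori of the same constant rank is an isomorphism. -/
theorem isIso_of_rank {r : ℕ} {T T' : Over S} [GrpObj T] [GrpObj T'] (hT : LocSplitRank r T)
    (hT' : LocSplitRank r T') (g : T ⟶ T') [IsMonHom g] [Mono g] : IsIso g := by
  refine isIso_of_mono_tori (isTorus_of_locSplit hT.locSplit) (isTorus_of_locSplit hT'.locSplit) g fun s => ⟨r, ?_⟩
  have key : ∀ {A : Over S} [GrpObj A], LocSplitRank r A → Red.IsSplitTorusWith (Fin r → ℤ) (Red.geomFibre s A) := by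
    intro A _ hA
    obtain ⟨U, hU, h⟩ := hA s
    have hr : Set.range (Red.geomPt s) ⊆ Set.range U.ι := by
      rintro _ ⟨p, rfl⟩
      rw [Scheme.Opens.range_ι]
      show (S.fromSpecResidueField s) _ ∈ U
      rw [Scheme.fromSpecResidueField_apply]
      exact hU
    have h1 := nonempty_bc_split h (IsOpenImmersion.lift U.ι (Red.geomPt s) hr)
    rwa [IsOpenImmersion.lift_fac] at h1
  exact ⟨key hT, key hT'⟩

/-- The trivial torus. -/
theorem exists_trivial_torus (M : Type) [AddCommGroup M] (hM : ∀ m : M, m = 0) (G : Over S) [GrpObj G] :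
    ∃ (T : Over S) (_ : GrpObj T) (j : T ⟶ G), IsMonHom j ∧ Mono j ∧ Red.IsSplitTorusWith M T := by
  have hom1 : ∀ (A : Over S) [GrpObj A], IsMonHom (1 : A ⟶ G) := fun A _ =>
    isMonHom_of_points _ fun X x y => by
      rw [MonObj.comp_one, MonObj.comp_one, MonObj.comp_one, _root_.one_mul]
  have mono1 : Mono (1 : Red.DS S M ⟶ G) := ⟨fun x y _ => ch_ext fun m => by
    obtain rfl : m = 1 := Multiplicative.toAdd.injective (hM _)
    rw [map_one, map_one]⟩
  exact ⟨Red.DS S M, Red.grpObj_bc _ _, 1, @hom1 (Red.DS S M) (Red.grpObj_bc _ _), mono1, ⟨Iso.refl _⟩⟩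

theorem DSmap_zero {M N : Type} [AddCommGroup M] [AddCommGroup N] :
    Red.DSmap S (0 : N →+ M) = (1 : Red.DS S M ⟶ Red.DS S N) := by
  refine ch_ext fun m => ?_
  rw [ch_one, show Red.DSmap S (0 : N →+ M) = 𝟙 _ ≫ Red.DSmap S (0 : N →+ M) from (Category.id_comp _).symm,
    ch_DSmap]
  exact map_one _

theorem DSmap_mul {M N : Type} [AddCommGroup M] [AddCommGroup N] (θ θ' : N →+ M) :
    Red.DSmap S θ * Red.DSmap S θ' = Red.DSmap S (θ + θ') := by
  have key : ∀ (φ : N →+ M) (m : Multiplicative N),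
      ch (Red.DSmap S φ) m = ch (𝟙 (Red.DS S M)) (Multiplicative.ofAdd (φ m.toAdd)) := fun φ m => by
    rw [show Red.DSmap S φ = 𝟙 _ ≫ Red.DSmap S φ from (Category.id_comp _).symm, ch_DSmap]
  refine ch_ext fun m => ?_
  rw [ch_mul, key, key, key, ← map_mul]
  rfl

/-- A product of diagonalisable groups is diagonalisable. -/
theorem nonempty_prod_DS {M N : Type} [AddCommGroup M] [AddCommGroup N] {A B : Over S} [GrpObj A] [GrpObj B]
    (e : Grp.mk A ≅ Grp.mk (Red.DS S M)) (e' : Grp.mk B ≅ Grp.mk (Red.DS S N)) :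
    Nonempty (Grp.mk (A ⊗ B) ≅ Grp.mk (Red.DS S (M × N))) := by
  let a : A ≅ Red.DS S M := (Grp.forget _).mapIso e
  let b : B ≅ Red.DS S N := (Grp.forget _).mapIso e'
  haveI : IsMonHom a.hom := e.hom.hom.isMonHom_hom
  haveI : IsMonHom a.inv := e.inv.hom.isMonHom_hom
  haveI : IsMonHom b.hom := e'.hom.hom.isMonHom_hom
  haveI : IsMonHom b.inv := e'.inv.hom.isMonHom_hom
  let p : M × N →+ M := AddMonoidHom.fst M N
  let p' : M × N →+ N := AddMonoidHom.snd M N
  let i : M →+ M × N := AddMonoidHom.inl M N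
  let i' : N →+ M × N := AddMonoidHom.inr M N
  let α : A ⊗ B ⟶ Red.DS S (M × N) := fst A B ≫ a.hom ≫ Red.DSmap S p
  let β : A ⊗ B ⟶ Red.DS S (M × N) := snd A B ≫ b.hom ≫ Red.DSmap S p'
  let φ : A ⊗ B ⟶ Red.DS S (M × N) := α * β
  let ψ : Red.DS S (M × N) ⟶ A ⊗ B := lift (Red.DSmap S i ≫ a.inv) (Red.DSmap S i' ≫ b.inv)
  haveI : IsMonHom α := by dsimp [α]; infer_instance
  haveI : IsMonHom β := by dsimp [β]; infer_instance
  haveI : IsMonHom φ := isMonHom_of_points φ fun X x y => ch_ext fun m => by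
    simp only [φ, MonObj.comp_mul, MonObj.mul_comp, ch_mul]
    exact mul_mul_mul_comm _ _ _ _
  have h1 : φ ≫ ψ = 𝟙 _ := by
    apply CartesianMonoidalCategory.hom_ext
    · rw [Category.assoc, lift_fst, MonObj.mul_comp, Category.id_comp]
      simp only [α, β, Category.assoc, reassoc_of% (DSmap_comp (S := S) p i), reassoc_of% (DSmap_comp (S := S) p' i)]
      rw [show p.comp i = AddMonoidHom.id M from rfl, show p'.comp i = 0 from rfl, DSmap_id, DSmap_zero,
        Category.id_comp, a.hom_inv_id, Category.comp_id, MonObj.one_comp, MonObj.comp_one, MonObj.comp_one,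
        _root_.mul_one]
    · rw [Category.assoc, lift_snd, MonObj.mul_comp, Category.id_comp]
      simp only [α, β, Category.assoc, reassoc_of% (DSmap_comp (S := S) p i'), reassoc_of% (DSmap_comp (S := S) p' i')]
      rw [show p.comp i' = 0 from rfl, show p'.comp i' = AddMonoidHom.id N from rfl, DSmap_id, DSmap_zero,
        Category.id_comp, b.hom_inv_id, Category.comp_id, MonObj.one_comp, MonObj.comp_one, MonObj.comp_one,
        _root_.one_mul]
  have h2 : ψ ≫ φ = 𝟙 _ := by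
    simp only [φ, ψ, α, β, MonObj.comp_mul, lift_fst_assoc, lift_snd_assoc, Category.assoc, a.inv_hom_id_assoc,
      b.inv_hom_id_assoc, DSmap_comp, DSmap_mul]
    rw [← DSmap_id (S := S) (M := M × N)]
    congr 1
    ext x <;> simp [p, p', i, i']
  let d : A ⊗ B ≅ Red.DS S (M × N) := ⟨φ, ψ, h1, h2⟩
  haveI : IsMonHom d.hom := ‹IsMonHom φ›
  exact ⟨Grp.mkIso' d⟩

/-- Base change commutes with products of groups. -/
theorem nonempty_bc_prod {X : Scheme.{u}} (o : X ⟶ S) (A B : Over S) [GrpObj A] [GrpObj B] :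
    Nonempty (Grp.mk (Red.bc o (A ⊗ B)) ≅ Grp.mk (Red.bc o A ⊗ Red.bc o B)) := by
  let φ : Red.bc o (A ⊗ B) ⟶ Red.bc o A ⊗ Red.bc o B := CartesianMonoidalCategory.prodComparison (Over.pullback o) A B
  haveI : IsIso φ := inferInstanceAs (IsIso (CartesianMonoidalCategory.prodComparison (Over.pullback o) A B))
  haveI : IsMonHom ((Over.pullback o).map (fst A B)) := inferInstance
  haveI : IsMonHom ((Over.pullback o).map (snd A B)) := inferInstance
  haveI : IsMonHom φ := isMonHom_of_points φ fun Y x y => by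
    apply CartesianMonoidalCategory.hom_ext
    · simp only [φ, Category.assoc, MonObj.mul_comp, CartesianMonoidalCategory.prodComparison_fst]
    · simp only [φ, Category.assoc, MonObj.mul_comp, CartesianMonoidalCategory.prodComparison_snd]
  haveI : IsMonHom (asIso φ).hom := ‹IsMonHom φ›
  exact ⟨Grp.mkIso' (asIso φ)⟩

theorem nonempty_addEquiv_prod (a b : ℕ) : Nonempty ((Fin a → ℤ) × (Fin b → ℤ) ≃+ (Fin (a + b) → ℤ)) :=
  ⟨(LinearEquiv.ofFinrankEq _ _ (by simp)).toAddEquiv (R := ℤ)⟩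

/-- Split tori multiply. -/
theorem split_prod {a b : ℕ} {A B : Over S} [GrpObj A] [GrpObj B] (hA : Red.IsSplitTorusWith (Fin a → ℤ) A)
    (hB : Red.IsSplitTorusWith (Fin b → ℤ) B) : Red.IsSplitTorusWith (Fin (a + b) → ℤ) (A ⊗ B) := by
  obtain ⟨e⟩ := nonempty_prod_DS hA.some hB.some
  obtain ⟨σ⟩ := nonempty_addEquiv_prod a b
  obtain ⟨c⟩ := nonempty_DS_congr (S := S) σ.symm
  exact ⟨e ≪≫ c⟩

/-- Locally split tori multiply. -/
theorem locSplit_prod {A B : Over S} [GrpObj A] [GrpObj B] (hA : LocSplit A) (hB : LocSplit B) :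
    LocSplit (A ⊗ B) := fun s => by
  obtain ⟨U, hU, a, ha⟩ := hA s
  obtain ⟨U', hU', b, hb⟩ := hB s
  let W := U ⊓ U'
  have h1 := nonempty_bc_split ha (S.homOfLE (inf_le_left : W ≤ U))
  have h2 := nonempty_bc_split hb (S.homOfLE (inf_le_right : W ≤ U'))
  rw [Scheme.homOfLE_ι] at h1 h2
  obtain ⟨c⟩ := split_prod h1 h2
  obtain ⟨d⟩ := nonempty_bc_prod W.ι A B
  exact ⟨W, ⟨hU, hU'⟩, a + b, ⟨d ≪≫ c⟩⟩

variable {G : Over S} [GrpObj G]

/-- The subgroup generated by two subgroups of multiplicative type. -/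
theorem exists_sup (hG : SGA3x.IsMultTypeFT G) {T T' : Over S} [GrpObj T] [GrpObj T'] (j : T ⟶ G) [IsMonHom j]
    (j' : T' ⟶ G) [IsMonHom j'] (hTT : SGA3x.IsMultTypeFT (T ⊗ T')) :
    ∃ (K : Over S) (_ : GrpObj K) (k : K ⟶ T ⊗ T') (_ : IsMonHom k) (_ : Mono k) (Q : Over S) (_ : GrpObj Q)
      (q : T ⊗ T' ⟶ Q) (_ : IsMonHom q) (m : Q ⟶ G) (g : T ⟶ Q) (g' : T' ⟶ Q),
      SGA3x.IsMultTypeFT K ∧ RedSub.IsQuotient k q ∧ IsMonHom m ∧ Mono m ∧ g ≫ m = j ∧ g' ≫ m = j' := by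
  let μ' : T ⊗ T' ⟶ G := (fst T T' ≫ j) * (snd T T' ≫ j')
  haveI : IsMonHom μ' := isMonHom_of_points μ' fun X x y => by
    simp only [μ', MonObj.comp_mul, MonObj.mul_comp]
    rw [_root_.mul_assoc, _root_.mul_assoc]
    congr 1
    rw [← _root_.mul_assoc, ← _root_.mul_assoc,
      comm_points_scheme G (locally_of_isMultTypeFT' G hG) (y ≫ fst T T' ≫ j) (x ≫ snd T T' ≫ j')]
  obtain ⟨K, instK, k, hk, hkc, hker, hK⟩ := MTKernel.exists_kernel_mt hTT hG μ'
  haveI := flat_of_isMultTypeFT K hK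
  haveI := locallyOfFinitePresentation_of_isMultTypeFT (T ⊗ T') hTT
  haveI := locallyOfFinitePresentation_of_isMultTypeFT G hG
  obtain ⟨Q, instQ, q, hq, m, hm, hqs, hqf, hqp, -, hmono, hqm, hsq⟩ :=
    MonoFactor.exists_quotient_kernel μ' (Or.inl inferInstance) k hker
  haveI := hkc
  haveI : Mono k := Over.mono_of_mono_left k
  refine ⟨K, instK, k, hk, inferInstance, Q, instQ, q, hq, m, lift (𝟙 T) 1 ≫ q, lift 1 (𝟙 T') ≫ q, hK,
    ⟨hqs, hqf, hqp, hsq⟩, hm, hmono, ?_, ?_⟩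
  · rw [Category.assoc, hqm]
    simp only [μ', MonObj.comp_mul, lift_fst_assoc, lift_snd_assoc, Category.id_comp, MonObj.one_comp, _root_.mul_one]
  · rw [Category.assoc, hqm]
    simp only [μ', MonObj.comp_mul, lift_fst_assoc, lift_snd_assoc, Category.id_comp, MonObj.one_comp, _root_.one_mul]

/-- The join of two locally split subtori is locally split. -/
theorem exists_sup_locSplit (hG : SGA3x.IsMultTypeFT G) {T T' : Over S} [GrpObj T] [GrpObj T'] (j : T ⟶ G)
    [IsMonHom j] (j' : T' ⟶ G) [IsMonHom j'] (hT : LocSplit T) (hT' : LocSplit T') :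
    ∃ (Q : Over S) (_ : GrpObj Q) (m : Q ⟶ G) (g : T ⟶ Q) (g' : T' ⟶ Q),
      IsMonHom m ∧ Mono m ∧ LocSplit Q ∧ g ≫ m = j ∧ g' ≫ m = j' := by
  have hTT := locSplit_prod hT hT'
  obtain ⟨K, _, k, _, _, Q, instQ, q, _, m, g, g', hK, hq, hm, hmono, h1, h2⟩ :=
    exists_sup hG j j' (isMultTypeFT_of_locSplit hTT)
  refine ⟨Q, instQ, m, g, g', hm, hmono, fun s => ?_, h1, h2⟩
  obtain ⟨U, hU, r, ⟨e⟩⟩ := hTT s
  obtain ⟨W, r', hW, ⟨d⟩⟩ := exists_split_bc (𝟙 S) U ⟨bcCongr (Category.comp_id _) _ ≪≫ e⟩ k hK q hq hU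
  exact ⟨W, hW, r', ⟨bcCongr (Category.comp_id _).symm Q ≪≫ d⟩⟩

/-- The join of two split subtori over a connected base is split. -/
theorem exists_sup_split [ConnectedSpace S] (hG : SGA3x.IsMultTypeFT G) {T T' : Over S} [GrpObj T] [GrpObj T']
    (j : T ⟶ G) [IsMonHom j] (j' : T' ⟶ G) [IsMonHom j'] {a b : ℕ} (hT : Red.IsSplitTorusWith (Fin a → ℤ) T)
    (hT' : Red.IsSplitTorusWith (Fin b → ℤ) T') :
    ∃ (Q : Over S) (_ : GrpObj Q) (m : Q ⟶ G) (g : T ⟶ Q) (g' : T' ⟶ Q) (r : ℕ),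
      IsMonHom m ∧ Mono m ∧ Red.IsSplitTorusWith (Fin r → ℤ) Q ∧ g ≫ m = j ∧ g' ≫ m = j' := by
  obtain ⟨c⟩ := split_prod hT hT'
  obtain ⟨K, _, k, _, _, Q, instQ, q, _, m, g, g', hK, hq, hm, hmono, h1, h2⟩ := exists_sup hG j j'
    (isMultTypeFT_of_locSplit (locSplit_prod (locSplitRank_of_split hT).locSplit (locSplitRank_of_split hT').locSplit))
  obtain ⟨hrel, hcov⟩ := isRel_of_isQuotient k q hq
  let e : T ⊗ T' ≅ Red.DS S (Fin (a + b) → ℤ) := (Grp.forget _).mapIso c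
  haveI : IsMonHom e.hom := c.hom.hom.isMonHom_hom
  haveI : IsMonHom e.inv := c.inv.hom.isMonHom_hom
  have hq' : CoverMap.Covers (e.inv ≫ q).left := by
    obtain ⟨Z, z, y, hz, hy⟩ := hcov
    exact ⟨Z, z, y ≫ e.hom.left, hz, by
      rw [Category.assoc, ← Over.comp_left, e.hom_inv_id_assoc, hy]⟩
  obtain ⟨N, ⟨d⟩⟩ := exists_global (k ≫ e.hom) hK fg_addSubgroup (e.inv ≫ q) hq' (isRel_iso hrel e)
  obtain ⟨r, -, ⟨σ⟩⟩ := exists_addEquiv N
  obtain ⟨l⟩ := nonempty_DS_congr (S := S) σ.symm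
  exact ⟨Q, instQ, m, g, g', r, hm, hmono, ⟨d ≪≫ l⟩, h1, h2⟩

/-- **S16614**: a maximal split subtorus. -/
theorem exists_maximal_split (hG : SGA3x.IsMultTypeFT G) :
    ∃ (T : Over S) (_ : GrpObj T) (j : T ⟶ G) (r : ℕ), IsMonHom j ∧ Mono j ∧ Red.IsSplitTorusWith (Fin r → ℤ) T ∧
      ∀ (T' : Over S) [GrpObj T'] (j' : T' ⟶ G) [IsMonHom j'] [Mono j'] (r' : ℕ) (g : T ⟶ T'),
        Red.IsSplitTorusWith (Fin r' → ℤ) T' → g ≫ j' = j → IsIso g := by
  rcases isEmpty_or_nonempty S with h | h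
  · obtain ⟨T, instT, j, hj, hj', hT⟩ := exists_trivial_torus (Fin 0 → ℤ) (fun _ => funext fun i => i.elim0) G
    refine ⟨T, instT, j, 0, hj, hj', hT, fun T' _ j' _ _ r' g _ _ => ?_⟩
    haveI : IsEmpty T'.left := Function.isEmpty T'.hom
    haveI : IsIso g.left := inferInstance
    haveI : IsIso ((Over.forget S).map g) := ‹IsIso g.left›
    exact isIso_of_reflects_iso g (Over.forget S)
  obtain ⟨n, hn⟩ := exists_rank_bound hG
  let R : Set ℕ := {r | ∃ (T : Over S) (_ : GrpObj T) (j : T ⟶ G), IsMonHom j ∧ Mono j ∧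
    Red.IsSplitTorusWith (Fin r → ℤ) T}
  have hne : R.Nonempty := by
    obtain ⟨T, instT, j, hj, hj', hT⟩ := exists_trivial_torus (Fin 0 → ℤ) (fun _ => funext fun i => i.elim0) G
    exact ⟨0, T, instT, j, hj, hj', hT⟩
  have hbdd : BddAbove R := ⟨n, by
    rintro r ⟨T, _, j, hj, hj', hT⟩
    exact hn T j r (locSplitRank_of_split hT)⟩
  obtain ⟨T, instT, j, hj, hj', hT⟩ := Nat.sSup_mem hne hbdd
  refine ⟨T, instT, j, sSup R, hj, hj', hT, fun T' _ j' _ _ r' g hT' hg => ?_⟩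
  haveI := isMonHom_of_comp_mono g j' j hg
  haveI : Mono g := mono_of_mono_fac hg
  have h1 : r' ≤ sSup R := le_csSup hbdd ⟨T', inferInstance, j', inferInstance, inferInstance, hT'⟩
  obtain ⟨s⟩ := h
  have h2 : sSup R ≤ r' :=
    rank_le_of_mono g (s := s) (U := ⊤) (U' := ⊤) trivial trivial (split_bc hT _) (split_bc hT' _)
  obtain rfl := le_antisymm h2 h1
  exact isIso_of_rank (locSplitRank_of_split hT) (locSplitRank_of_split hT') g

/-- **S16612**: a greatest split subtorus over a connected base. -/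
theorem exists_greatest_split [ConnectedSpace S] (hG : SGA3x.IsMultTypeFT G) :
    ∃ (T : Over S) (_ : GrpObj T) (j : T ⟶ G) (r : ℕ), IsMonHom j ∧ Mono j ∧ Red.IsSplitTorusWith (Fin r → ℤ) T ∧
      ∀ (T' : Over S) [GrpObj T'] (j' : T' ⟶ G) [IsMonHom j'] [Mono j'] (r' : ℕ),
        Red.IsSplitTorusWith (Fin r' → ℤ) T' → ∃ g : T' ⟶ T, g ≫ j = j' := by
  obtain ⟨T, instT, j, r, hj, hj', hT, hmax⟩ := exists_maximal_split hG
  refine ⟨T, instT, j, r, hj, hj', hT, fun T' _ j' _ _ r' hT' => ?_⟩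
  obtain ⟨Q, _, m, g, g', r'', hm, hm', hQ, h1, h2⟩ := exists_sup_split hG j j' hT hT'
  haveI := hmax Q m r'' g hQ h1
  exact ⟨g' ≫ inv g, by rw [Category.assoc, ← h1, IsIso.inv_hom_id_assoc, h2]⟩

/-- **S16613**: a greatest locally split subtorus over a connected base. -/
theorem exists_greatest_locSplit [ConnectedSpace S] (hG : SGA3x.IsMultTypeFT G) :
    ∃ (T : Over S) (_ : GrpObj T) (j : T ⟶ G), IsMonHom j ∧ Mono j ∧ LocSplit T ∧
      ∀ (T' : Over S) [GrpObj T'] (j' : T' ⟶ G) [IsMonHom j'] [Mono j'],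
        LocSplit T' → ∃ g : T' ⟶ T, g ≫ j = j' := by
  obtain ⟨n, hn⟩ := exists_rank_bound hG
  let R : Set ℕ := {r | ∃ (T : Over S) (_ : GrpObj T) (j : T ⟶ G), IsMonHom j ∧ Mono j ∧ LocSplitRank r T}
  have hne : R.Nonempty := by
    obtain ⟨T, instT, j, hj, hj', hT⟩ := exists_trivial_torus (Fin 0 → ℤ) (fun _ => funext fun i => i.elim0) G
    exact ⟨0, T, instT, j, hj, hj', locSplitRank_of_split hT⟩
  have hbdd : BddAbove R := ⟨n, by
    rintro r ⟨T, _, j, hj, hj', hT⟩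
    exact hn T j r hT⟩
  obtain ⟨T, instT, j, hj, hj', hT⟩ := Nat.sSup_mem hne hbdd
  refine ⟨T, instT, j, hj, hj', hT.locSplit, fun T' _ j' _ _ hT' => ?_⟩
  obtain ⟨Q, _, m, g, g', hm, hm', hQ, h1, h2⟩ := exists_sup_locSplit hG j j' hT.locSplit hT'
  haveI := isMonHom_of_comp_mono g m j h1
  haveI : Mono g := mono_of_mono_fac h1
  obtain ⟨r', hr'⟩ := exists_rank hQ
  obtain ⟨s⟩ := (inferInstance : Nonempty S)
  obtain ⟨U, hU, ha⟩ := hT s
  obtain ⟨U', hU', hb⟩ := hr' s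
  obtain h := le_antisymm (rank_le_of_mono g hU hU' ha hb) (le_csSup hbdd ⟨Q, inferInstance, m, hm, hm', hr'⟩)
  haveI := isIso_of_rank (h ▸ hT) hr' g
  exact ⟨g' ≫ inv g, by rw [Category.assoc, ← h1, IsIso.inv_hom_id_assoc, h2]⟩

end Groth.Agent.MTSplit
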