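import Groth.Agent.MTSplit.Basic
import Groth.Agent.HomDiag.Const
import Groth.Agent.GrpField.Irreducible
import Groth.Agent.SectionExt.Basic

/-!
# A locally split torus over an irreducible base is split
-/

set_option autoImplicit false
set_option linter.style.haveILetI false
set_option backward.isDefEq.respectTransparency false
set_option maxHeartbeats 1000000
set_option synthInstance.maxHeartbeats 400000

universe u

noncomputable section

open CategoryTheory Limits MonoidalCategory CartesianMonoidalCategory MonObj GrpObj AlgebraicGeometry WithConv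
open scoped CategoryTheory.Obj

namespace Groth.Agent.MTSplit

open Groth.Agent.MTBridge Groth.Agent.HomDiag Groth.Agent.MTQuot

variable {S : Scheme.{u}}

/-- Morphisms agreeing locally over the base are equal. -/
theorem hom_ext_local {X A : Over S} (x y : X ⟶ A)
    (h : ∀ p : X.left, ∃ V : S.Opens, X.hom p ∈ V ∧ ∀ (Y : Over S) (a : Y ⟶ X),
      Set.range Y.hom ⊆ (V : Set S) → a ≫ x = a ≫ y) : x = y := by
  choose V hV hVe using h
  let 𝒰 : X.left.OpenCover := X.left.openCoverOfIsOpenCover (fun p => X.hom ⁻¹ᵁ V p)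
    (TopologicalSpace.IsOpenCover.mk (eq_top_iff.2 fun p _ => TopologicalSpace.Opens.mem_iSup.2 ⟨p, hV p⟩))
  refine Over.OverMorphism.ext (𝒰.hom_ext _ _ fun p => ?_)
  let Y : Over S := Over.mk ((X.hom ⁻¹ᵁ V p).ι ≫ X.hom)
  have hY : Set.range Y.hom ⊆ (V p : Set S) := by
    rintro _ ⟨q, rfl⟩
    exact q.2
  exact congrArg CommaMorphism.left (hVe p Y (Over.homMk (X.hom ⁻¹ᵁ V p).ι rfl) hY)

/-- A multiplicative natural map on the points of `A` lying over `U`. -/
structure LocMap (A B : Over S) [GrpObj A] [GrpObj B] (U : S.Opens) where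
  /-- the map on points -/
  app : ∀ (X : Over S), Set.range X.hom ⊆ (U : Set S) → (X ⟶ A) → (X ⟶ B)
  natural : ∀ {X Y : Over S} (a : Y ⟶ X) (hX : Set.range X.hom ⊆ (U : Set S))
    (hY : Set.range Y.hom ⊆ (U : Set S)) (x : X ⟶ A), app Y hY (a ≫ x) = a ≫ app X hX x
  mul : ∀ (X : Over S) (hX : Set.range X.hom ⊆ (U : Set S)) (x y : X ⟶ A),
    app X hX (x * y) = app X hX x * app X hX y

section Chart

variable {U : S.Opens} {A B C : Over S}

/-- The `U`-object of an object over `U`. -/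
def liftObj (U : S.Opens) (X : Over S) (h : Set.range X.hom ⊆ (U : Set S)) : Over (U : Scheme.{u}) :=
  Over.mk (IsOpenImmersion.lift U.ι X.hom (by rwa [Scheme.Opens.range_ι]))

/-- The comparison. -/
def liftIso (U : S.Opens) (X : Over S) (h : Set.range X.hom ⊆ (U : Set S)) :
    (Over.map U.ι).obj (liftObj U X h) ≅ X :=
  Over.isoMk (Iso.refl _) (by simp [liftObj])

/-- The action of a morphism of base changes on points. -/
def act (ε : Red.bc U.ι A ⟶ Red.bc U.ι B) (X : Over S) (h : Set.range X.hom ⊆ (U : Set S)) (x : X ⟶ A) :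
    X ⟶ B :=
  (liftIso U X h).inv ≫ ((Over.mapPullbackAdj U.ι).homEquiv _ B).symm (toBC U.ι ((liftIso U X h).hom ≫ x) ≫ ε)

theorem act_id (X : Over S) (h : Set.range X.hom ⊆ (U : Set S)) (x : X ⟶ A) :
    act (U := U) (𝟙 (Red.bc U.ι A)) X h x = x := by
  simp only [act, toBC, Category.comp_id, Equiv.symm_apply_apply, Iso.inv_hom_id_assoc]

theorem act_comp (ε : Red.bc U.ι A ⟶ Red.bc U.ι B) (ε' : Red.bc U.ι B ⟶ Red.bc U.ι C) (X : Over S)
    (h : Set.range X.hom ⊆ (U : Set S)) (x : X ⟶ A) : act ε' X h (act ε X h x) = act (ε ≫ ε') X h x := by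
  simp only [act, toBC, Iso.hom_inv_id_assoc, Equiv.apply_symm_apply, Category.assoc]

theorem act_natural (ε : Red.bc U.ι A ⟶ Red.bc U.ι B) {X Y : Over S} (a : Y ⟶ X)
    (hX : Set.range X.hom ⊆ (U : Set S)) (hY : Set.range Y.hom ⊆ (U : Set S)) (x : X ⟶ A) :
    act ε Y hY (a ≫ x) = a ≫ act ε X hX x := by
  let b : liftObj U Y hY ⟶ liftObj U X hX := Over.homMk a.left (by
    apply (cancel_mono U.ι).1
    simp [liftObj])
  have hb : (liftIso U Y hY).hom ≫ a = (Over.map U.ι).map b ≫ (liftIso U X hX).hom := by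
    apply Over.OverMorphism.ext
    simp [liftIso, b]
  have hb' : (liftIso U Y hY).inv ≫ (Over.map U.ι).map b = a ≫ (liftIso U X hX).inv := by
    rw [Iso.inv_comp_eq, reassoc_of% hb, Iso.hom_inv_id, Category.comp_id]
  simp only [act]
  rw [reassoc_of% hb, show toBC U.ι ((Over.map U.ι).map b ≫ (liftIso U X hX).hom ≫ x) =
      b ≫ toBC U.ι ((liftIso U X hX).hom ≫ x) from (Over.mapPullbackAdj U.ι).homEquiv_naturality_left b _,
    Category.assoc, Adjunction.homEquiv_naturality_left_symm, reassoc_of% hb']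

theorem act_mul [GrpObj A] [GrpObj B] (ε : Red.bc U.ι A ⟶ Red.bc U.ι B) [IsMonHom ε] (X : Over S)
    (h : Set.range X.hom ⊆ (U : Set S)) (x y : X ⟶ A) : act ε X h (x * y) = act ε X h x * act ε X h y := by
  simp only [act]
  rw [← MonObj.comp_mul, MonObj.comp_mul, toBC_mul, MonObj.mul_comp]
  congr 1
  refine ((Over.mapPullbackAdj U.ι).homEquiv _ B).injective ?_
  rw [Equiv.apply_symm_apply]
  show _ = toBC U.ι _
  rw [toBC_mul]
  simp only [toBC, Equiv.apply_symm_apply]

/-- The map on points of a homomorphism of base changes. -/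
def ofHom [GrpObj A] [GrpObj B] (ε : Red.bc U.ι A ⟶ Red.bc U.ι B) [IsMonHom ε] : LocMap A B U where
  app := act ε
  natural := act_natural ε
  mul := act_mul ε

end Chart

variable {M N : Type} [AddCommGroup M] [AddCommGroup N]

/-- A character map is determined over a nonempty open. -/
theorem eq_of_DSmap {V : S.Opens} {s : S} (hs : s ∈ V) (θ θ' : N →+ M)
    (h : ∀ (X : Over S), Set.range X.hom ⊆ (V : Set S) →
      ∀ x : X ⟶ Red.DS S M, x ≫ Red.DSmap S θ = x ≫ Red.DSmap S θ') : θ = θ' := by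
  let L := MonoidAlgebra (S.residueField s) (Multiplicative M)
  let str : Spec (CommRingCat.of L) ⟶ Spec (S.residueField s) :=
    Spec.map (CommRingCat.ofHom (algebraMap (S.residueField s) L))
  let X : Over S := Over.mk (str ≫ S.fromSpecResidueField s)
  have hX : Set.range X.hom ⊆ (V : Set S) := by
    rintro _ ⟨q, rfl⟩
    show S.fromSpecResidueField s (str q) ∈ V
    rwa [Scheme.fromSpecResidueField_apply]
  let χ : Multiplicative M →* Γ(X.left, ⊤) :=
    ((Scheme.ΓSpecIso (CommRingCat.of L)).inv.hom.toMonoidHom).comp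
      (MonoidAlgebra.of (S.residueField s) (Multiplicative M))
  obtain ⟨x, hx⟩ := exists_ch (S := S) (X := X) χ
  refine AddMonoidHom.ext fun n => ?_
  have h1 := congrArg (fun z => ch z (Multiplicative.ofAdd n)) (h X hX x)
  simp only [ch_DSmap, toAdd_ofAdd, hx] at h1
  have h2 := congrArg (Scheme.ΓSpecIso (CommRingCat.of L)).hom h1
  simp only [χ] at h2
  erw [Iso.inv_hom_id_apply, Iso.inv_hom_id_apply] at h2
  exact Multiplicative.ofAdd.injective (MonoidAlgebra.single_left_injective (R := S.residueField s) one_ne_zero h2)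

/-- Over an irreducible base a multiplicative natural map of diagonalisable groups is a character map. -/
theorem exists_DSmap [IrreducibleSpace S] [AddGroup.FG N] {W : S.Opens} (hW : (W : Set S).Nonempty)
    (d : LocMap (Red.DS S M) (Red.DS S N) W) : ∃ θ : N →+ M, ∀ (X : Over S) (hX : Set.range X.hom ⊆ (W : Set S))
      (x : X ⟶ Red.DS S M), d.app X hX x = x ≫ Red.DSmap S θ := by
  have hmap : ∀ Y : Over (W : Scheme.{u}), Set.range ((Over.map W.ι).obj Y).hom ⊆ (W : Set S) := by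
    rintro Y _ ⟨q, rfl⟩
    exact (Y.hom q).2
  let X₀ : Over S := (Over.map W.ι).obj (Red.DS (W : Scheme.{u}) M)
  let χ₀ := ch (S := (W : Scheme.{u})) (M := M) (𝟙 (Red.DS (W : Scheme.{u}) M))
  obtain ⟨x₀, hx₀⟩ := exists_ch (S := S) (X := X₀) (M := M) χ₀
  let χ₁ := ch (S := S) (M := N) (d.app X₀ (hmap _) x₀)
  obtain ⟨w, hw⟩ := exists_ch (S := (W : Scheme.{u})) (X := Red.DS (W : Scheme.{u}) M) (M := N) χ₁
  have key : ∀ (Y : Over (W : Scheme.{u})) (p : Y ⟶ Red.DS (W : Scheme.{u}) M)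
      (pS : (Over.map W.ι).obj Y ⟶ Red.DS S M), (∀ m, ch pS m = ch p m) →
      ∀ m, ch (p ≫ w) m = ch (d.app _ (hmap Y) pS) m := by
    intro Y p pS hp m
    have h1 : pS = (Over.map W.ι).map p ≫ x₀ := ch_ext fun m => by
      rw [hp, ch_comp, hx₀]
      show ch p m = p.left.appTop (ch (𝟙 (Red.DS (W : Scheme.{u}) M)) m)
      rw [← ch_comp, Category.comp_id]
    rw [h1, d.natural ((Over.map W.ι).map p) (hmap _) (hmap _), ch_comp, ch_comp, hw]
    rfl
  haveI : IsMonHom w := isMonHom_of_points w fun Y p q => ch_ext fun m => by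
    let χp := ch (S := (W : Scheme.{u})) p
    let χq := ch (S := (W : Scheme.{u})) q
    obtain ⟨pS, hpS⟩ := exists_ch (S := S) (X := (Over.map W.ι).obj Y) (M := M) χp
    obtain ⟨qS, hqS⟩ := exists_ch (S := S) (X := (Over.map W.ι).obj Y) (M := M) χq
    rw [ch_mul, key Y p pS hpS, key Y q qS hqS, key Y (p * q) (pS * qS) (fun m => by rw [ch_mul, ch_mul, hpS, hqS]; rfl),
      d.mul, ch_mul]
  have hloc : ∀ t ∈ W, ∃ (V : S.Opens) (θ : N →+ M), t ∈ V ∧ V ≤ W ∧ ∀ (X : Over S)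
      (hX : Set.range X.hom ⊆ (W : Set S)), Set.range X.hom ⊆ (V : Set S) →
        ∀ x : X ⟶ Red.DS S M, d.app X hX x = x ≫ Red.DSmap S θ := by
    intro t ht
    obtain ⟨V, θ, htV, hVθ⟩ := exists_local_DSmap w (⟨t, ht⟩ : (W : Scheme.{u}))
    refine ⟨W.ι ''ᵁ V, θ, ⟨⟨t, ht⟩, htV, rfl⟩, W.ι_image_le V, fun X hX hXV x => ?_⟩
    let Y := liftObj W X hX
    have hY : Set.range Y.hom ⊆ (V : Set (W : Scheme.{u})) := by
      rintro _ ⟨q, rfl⟩
      obtain ⟨v, hv, hv'⟩ := hXV ⟨q, rfl⟩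
      have h2 : W.ι (Y.hom q) = X.hom q := by
        show (IsOpenImmersion.lift W.ι X.hom _ ≫ W.ι) q = _
        rw [IsOpenImmersion.lift_fac]
      exact (W.ι.isOpenEmbedding.injective (hv'.trans h2.symm)) ▸ hv
    let χx := ch (S := S) ((liftIso W X hX).hom ≫ x)
    obtain ⟨p, hp⟩ := exists_ch (S := (W : Scheme.{u})) (X := Y) (M := M) χx
    rw [← cancel_epi (liftIso W X hX).hom, ← d.natural _ hX (hmap Y)]
    refine ch_ext fun m => ?_
    rw [← key Y p _ (fun m => (hp m).symm), hVθ Y hY, ch_DSmap, ← Category.assoc, ch_DSmap, hp]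
    rfl
  choose V θ htV hVW hθ using hloc
  obtain ⟨t₀, ht₀⟩ := hW
  refine ⟨θ t₀ ht₀, fun X hX x => hom_ext_local _ _ fun p => ?_⟩
  have hp : X.hom p ∈ W := hX ⟨p, rfl⟩
  refine ⟨V _ hp, htV _ hp, fun Y a hY => ?_⟩
  have hYW : Set.range Y.hom ⊆ (W : Set S) := hY.trans (hVW _ hp)
  have heq : θ _ hp = θ t₀ ht₀ := by
    obtain ⟨s, hs₁, hs₂⟩ := nonempty_preirreducible_inter (V _ hp).isOpen (V t₀ ht₀).isOpen ⟨_, htV _ hp⟩
      ⟨_, htV _ ht₀⟩
    refine eq_of_DSmap (V := V _ hp ⊓ V t₀ ht₀) (s := s) ⟨hs₁, hs₂⟩ _ _ fun Z hZ z => ?_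
    have h1 : Set.range Z.hom ⊆ (V _ hp : Set S) := hZ.trans Set.inter_subset_left
    have h2 : Set.range Z.hom ⊆ (V t₀ ht₀ : Set S) := hZ.trans Set.inter_subset_right
    rw [← hθ _ hp Z (h1.trans (hVW _ hp)) h1, ← hθ _ ht₀ Z (h2.trans (hVW _ ht₀)) h2]
  rw [← d.natural a hX hYW, hθ _ hp Y hYW hY, heq, Category.assoc]

/-- Composition of the restrictions of two maps on points. -/
def LocMap.comp {A B C : Over S} [GrpObj A] [GrpObj B] [GrpObj C] {U U' W : S.Opens} (c : LocMap A B U)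
    (c' : LocMap B C U') (h : W ≤ U) (h' : W ≤ U') : LocMap A C W where
  app X hX x := c'.app X (hX.trans h') (c.app X (hX.trans h) x)
  natural a hX hY x := by rw [c.natural a (hX.trans h), c'.natural a (hX.trans h')]
  mul X hX x y := by rw [c.mul, c'.mul]

/-- Glue maps on points. -/
theorem exists_glue_locMap {A B : Over S} [GrpObj A] [GrpObj B] (U : S → S.Opens) (hU : ∀ s, s ∈ U s)
    (c : ∀ s, LocMap A B (U s))
    (hc : ∀ (s s' : S) (X : Over S) (h : Set.range X.hom ⊆ (U s : Set S))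
      (h' : Set.range X.hom ⊆ (U s' : Set S)) (x : X ⟶ A), (c s).app X h x = (c s').app X h' x) :
    ∃ e : A ⟶ B, IsMonHom e ∧ ∀ (s : S) (X : Over S) (h : Set.range X.hom ⊆ (U s : Set S)) (x : X ⟶ A),
      x ≫ e = (c s).app X h x := by
  let 𝒰 : (𝟙_ (Over S)).left.OpenCover := Scheme.openCoverOfIsOpenCover (X := S) U
    (TopologicalSpace.IsOpenCover.mk (eq_top_iff.2 fun p _ => TopologicalSpace.Opens.mem_iSup.2 ⟨p, hU p⟩))
  have hpiece : ∀ (s : S) (X : Over S) (_ : X ⟶ Groth.Agent.HomRep.piece 𝒰 s),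
      Set.range X.hom ⊆ (U s : Set S) := by
    intro s X a
    rw [← Over.w a]
    rintro _ ⟨q, rfl⟩
    exact (a.left q).2
  have hr : ∀ s, Set.range (A ⊗ Groth.Agent.HomRep.piece 𝒰 s).hom ⊆ (U s : Set S) := fun s =>
    hpiece s _ (snd _ _)
  obtain ⟨z, hz⟩ := HomDiag.exists_glue (H := A) (G := B) 𝒰
    (fun s => (c s).app _ (hr s) (fst A (Groth.Agent.HomRep.piece 𝒰 s))) (fun s s' X x a b _ => by
      rw [← (c s).natural (lift x a) (hr s) (hpiece s X a), ← (c s').natural (lift x b) (hr s') (hpiece s' X b),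
        lift_fst, lift_fst]
      exact hc s s' X _ _ x)
  obtain ⟨e, he⟩ : ∃ e : A ⟶ B, e = lift (𝟙 A) (toUnit A) ≫ z := ⟨_, rfl⟩
  have key : ∀ (s : S) (X : Over S) (h : Set.range X.hom ⊆ (U s : Set S)) (x : X ⟶ A),
      x ≫ e = (c s).app X h x := by
    intro s X h x
    let a : X ⟶ Groth.Agent.HomRep.piece 𝒰 s :=
      Over.homMk (IsOpenImmersion.lift (U s).ι X.hom (h.trans_eq (Scheme.Opens.range_ι _).symm))
        (by
          show IsOpenImmersion.lift (U s).ι X.hom _ ≫ (U s).ι ≫ 𝟙 S = X.hom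
          rw [Category.comp_id]
          exact IsOpenImmersion.lift_fac _ _ _)
    have ha : a ≫ Groth.Agent.HomRep.pieceMap 𝒰 s = toUnit X := toUnit_unique _ _
    rw [he, comp_lift_assoc, Category.comp_id, toUnit_unique (x ≫ toUnit A) (toUnit X), ← ha,
      ← lift_whiskerLeft_assoc, hz, ← (c s).natural _ (hr s) h, lift_fst]
  refine ⟨e, isMonHom_of_points e fun X x y => hom_ext_local _ _ fun p => ?_, key⟩
  refine ⟨U (X.hom p), hU _, fun Y a hY => ?_⟩
  rw [← Category.assoc, key _ Y hY, MonObj.comp_mul, (c _).mul, MonObj.comp_mul, ← key _ Y hY, ← key _ Y hY,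
    Category.assoc, Category.assoc]

/-- **A locally split torus over an irreducible base is split.** -/
theorem split_of_irreducible [IrreducibleSpace S] {T : Over S} [GrpObj T] (hT : LocSplit T) :
    ∃ r, Red.IsSplitTorusWith (Fin r → ℤ) T := by
  obtain ⟨r, hr⟩ := exists_rank hT
  refine ⟨r, ?_⟩
  suffices key : ∀ (M : Type) [AddCommGroup M] [AddGroup.FG M],
      (∀ s : S, ∃ U : S.Opens, s ∈ U ∧ Red.IsSplitTorusWith M (Red.bc U.ι T)) → Red.IsSplitTorusWith M T from
    key _ hr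
  intro M _ _ hM
  choose U hU hs using hM
  have hcharts : ∀ s, ∃ (c : LocMap (Red.DS S M) T (U s)) (c' : LocMap T (Red.DS S M) (U s)),
      (∀ X h x, c'.app X h (c.app X h x) = x) ∧ ∀ X h x, c.app X h (c'.app X h x) = x := by
    intro s
    let e := bcDS (U s).ι M ≪≫ (hs s).some.symm
    haveI := e.hom.hom.isMonHom_hom
    haveI := e.inv.hom.isMonHom_hom
    let i : Red.bc (U s).ι (Red.DS S M) ≅ Red.bc (U s).ι T := (Grp.forget _).mapIso e
    haveI : IsMonHom i.hom := e.hom.hom.isMonHom_hom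
    haveI : IsMonHom i.inv := e.inv.hom.isMonHom_hom
    refine ⟨ofHom i.hom, ofHom i.inv, fun X h x => ?_, fun X h x => ?_⟩
    · show act i.inv X h (act i.hom X h x) = x
      rw [act_comp, i.hom_inv_id, act_id]
    · show act i.hom X h (act i.inv X h x) = x
      rw [act_comp, i.inv_hom_id, act_id]
  choose c c' hc hc' using hcharts
  obtain ⟨s₀⟩ := (inferInstance : Nonempty S)
  let W : S → S.Opens := fun s => U s ⊓ U s₀
  have hWne : ∀ s, (W s : Set S).Nonempty := fun s =>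
    nonempty_preirreducible_inter (U s).isOpen (U s₀).isOpen ⟨s, hU s⟩ ⟨s₀, hU s₀⟩
  have hWl : ∀ s, W s ≤ U s := fun s => inf_le_left
  have hWr : ∀ s, W s ≤ U s₀ := fun s => inf_le_right
  choose θ hθ using fun s => exists_DSmap (hWne s) ((c s₀).comp (c' s) (hWr s) (hWl s))
  choose θ' hθ' using fun s => exists_DSmap (hWne s) ((c s).comp (c' s₀) (hWl s) (hWr s))
  have hinv : ∀ s, Red.DSmap S (θ' s) ≫ Red.DSmap S (θ s) = 𝟙 _ ∧
      Red.DSmap S (θ s) ≫ Red.DSmap S (θ' s) = 𝟙 _ := by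
    intro s
    obtain ⟨t, ht⟩ := hWne s
    constructor <;> rw [DSmap_comp, ← DSmap_id (S := S) (M := M)] <;> congr 1 <;>
      refine eq_of_DSmap (V := W s) ht _ _ fun X hX x => ?_
    · rw [← DSmap_comp, ← Category.assoc, ← hθ' s X hX, ← hθ s X hX, DSmap_id, Category.comp_id]
      show (c' s).app X _ ((c s₀).app X _ ((c' s₀).app X _ ((c s).app X _ x))) = x
      rw [hc', hc]
    · rw [← DSmap_comp, ← Category.assoc, ← hθ s X hX, ← hθ' s X hX, DSmap_id, Category.comp_id]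
      show (c' s₀).app X _ ((c s).app X _ ((c' s).app X _ ((c s₀).app X _ x))) = x
      rw [hc', hc]
  let D : ∀ (θ : M →+ M) (s : S), LocMap (Red.DS S M) (Red.DS S M) (U s) := fun θ s =>
    { app := fun X _ x => x ≫ Red.DSmap S θ
      natural := fun a _ _ x => Category.assoc _ _ _
      mul := fun X _ x y => MonObj.mul_comp _ _ _ }
  let cN : ∀ s, LocMap (Red.DS S M) T (U s) := fun s => (D (θ s) s).comp (c s) le_rfl le_rfl
  let cN' : ∀ s, LocMap T (Red.DS S M) (U s) := fun s => (c' s).comp (D (θ' s) s) le_rfl le_rfl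
  have hN : ∀ s X h x, (cN' s).app X h ((cN s).app X h x) = x := fun s X h x => by
    show (c' s).app X h ((c s).app X h (x ≫ Red.DSmap S (θ s))) ≫ Red.DSmap S (θ' s) = x
    rw [hc, Category.assoc, (hinv s).2, Category.comp_id]
  have hN' : ∀ s X h x, (cN s).app X h ((cN' s).app X h x) = x := fun s X h x => by
    show (c s).app X h (((c' s).app X h x ≫ Red.DSmap S (θ' s)) ≫ Red.DSmap S (θ s)) = x
    rw [Category.assoc, (hinv s).1, Category.comp_id, hc']
  have href : ∀ s (X : Over S) (hX : Set.range X.hom ⊆ (W s : Set S)) (x : X ⟶ Red.DS S M),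
      (cN s).app X (hX.trans (hWl s)) x = (c s₀).app X (hX.trans (hWr s)) x := by
    intro s X hX x
    show (c s).app X _ (x ≫ Red.DSmap S (θ s)) = _
    rw [← hθ s X hX]
    exact hc' s X _ _
  have hcompat : ∀ (s s' : S) (X : Over S) (h : Set.range X.hom ⊆ (U s : Set S))
      (h' : Set.range X.hom ⊆ (U s' : Set S)) (x : X ⟶ Red.DS S M), (cN s).app X h x = (cN s').app X h' x := by
    intro s s' X h h' x
    rcases isEmpty_or_nonempty X.left with hX | ⟨⟨p⟩⟩
    · exact Over.OverMorphism.ext ((isInitialOfIsEmpty (X := X.left)).hom_ext _ _)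
    have hne : ((U s ⊓ U s' : S.Opens) : Set S).Nonempty := ⟨X.hom p, h ⟨p, rfl⟩, h' ⟨p, rfl⟩⟩
    obtain ⟨φ, hφ⟩ := exists_DSmap hne ((cN s).comp (cN' s') inf_le_left inf_le_right)
    obtain ⟨t, ⟨ht, ht'⟩, ht₀⟩ := nonempty_preirreducible_inter (U s ⊓ U s').isOpen (U s₀).isOpen hne ⟨s₀, hU s₀⟩
    have hid : φ = AddMonoidHom.id M := by
      refine eq_of_DSmap (V := (U s ⊓ U s') ⊓ U s₀) (s := t) ⟨⟨ht, ht'⟩, ht₀⟩ _ _ fun Y hY y => ?_
      rw [DSmap_id, Category.comp_id, ← hφ Y (hY.trans Set.inter_subset_left)]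
      have hs₁ : Set.range Y.hom ⊆ (U s : Set S) := fun a ha => (hY ha).1.1
      have hs₂ : Set.range Y.hom ⊆ (U s' : Set S) := fun a ha => (hY ha).1.2
      show (cN' s').app Y hs₂ ((cN s).app Y hs₁ y) = y
      rw [href s Y (fun a ha => ⟨(hY ha).1.1, (hY ha).2⟩), ← href s' Y (fun a ha => ⟨(hY ha).1.2, (hY ha).2⟩)]
      exact hN s' Y _ y
    have h2 := hφ X (fun a ha => ⟨h ha, h' ha⟩) x
    rw [hid, DSmap_id, Category.comp_id] at h2
    conv_rhs => rw [← h2]
    exact (hN' s' X h' _).symm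
  obtain ⟨e, he, hes⟩ := exists_glue_locMap U hU cN hcompat
  obtain ⟨e', he', hes'⟩ := exists_glue_locMap U hU cN' fun s s' X h h' x => by
    conv_rhs => rw [← hN' s X h x, hcompat s s' X h h', hN s' X h']
  let i : Red.DS S M ≅ T :=
    { hom := e
      inv := e'
      hom_inv_id := hom_ext_local _ _ fun p => ⟨_, hU _, fun Y a hY => by
        rw [Category.comp_id, ← Category.assoc, hes _ Y hY, hes' _ Y hY, hN]⟩
      inv_hom_id := hom_ext_local _ _ fun p => ⟨_, hU _, fun Y a hY => by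
        rw [Category.comp_id, ← Category.assoc, hes' _ Y hY, hes _ Y hY, hN']⟩ }
  haveI : IsMonHom i.hom := he
  exact ⟨(Grp.mkIso' i).symm⟩

/-- A connected locally noetherian scheme whose local rings are domains is irreducible. -/
theorem irreducibleSpace_of_domains' [ConnectedSpace S] [IsLocallyNoetherian S]
    (hdom : ∀ x : S, IsDomain (S.presheaf.stalk x)) : IrreducibleSpace S := by
  refine Groth.Agent.GrpField.irreducibleSpace_of_nhds fun x => ?_
  haveI := hdom x
  obtain ⟨V, hxV, -, hV, -⟩ := Groth.Agent.SectionExt.exists_integral_nhd x ⊤ trivial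
  refine ⟨V, V.isOpen, ?_, hxV⟩
  haveI := hV
  have h : IsIrreducible (Set.univ : Set V.toScheme) := IrreducibleSpace.isIrreducible_univ _
  have := h.image V.ι V.ι.continuous.continuousOn
  rwa [Set.image_univ, Scheme.Opens.range_ι] at this

/-- **S16620**: cocharacters factor through the greatest split subtorus. -/
theorem cochar_factor [ConnectedSpace S] {T T₀ : Over S} [GrpObj T] [GrpObj T₀] (hT : Red.IsTorus T)
    (j₀ : T₀ ⟶ T) [IsMonHom j₀] (r₀ : ℕ) (hT₀ : Red.IsSplitTorusWith (Fin r₀ → ℤ) T₀)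
    (hmax : ∀ (T' : Over S) [GrpObj T'] (j' : T' ⟶ T) [IsMonHom j'] [Mono j'] (r' : ℕ),
      Red.IsSplitTorusWith (Fin r' → ℤ) T' → ∃ g : T' ⟶ T₀, g ≫ j₀ = j')
    (lam : Red.Gm S ⟶ T) [IsMonHom lam] : ∃ mu : Red.Gm S ⟶ T₀, mu ≫ j₀ = lam := by
  have hZ : Red.IsSplitTorusWith (Fin 1 → ℤ) (Red.Gm S) :=
    nonempty_DS_congr (LinearEquiv.funUnique (Fin 1) ℤ ℤ).toAddEquiv
  obtain ⟨Q, _, m, g, g', r, hm, hm', hQ, -, h⟩ :=
    exists_sup_split (isMultTypeFT_of_isTorus T hT) j₀ lam hT₀ hZ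
  obtain ⟨f, hf⟩ := hmax Q m r hQ
  exact ⟨g' ≫ f, by rw [Category.assoc, hf, h]⟩

end Groth.Agent.MTSplit
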